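import Groth.Agent.Lib.TFDual16.Basic

/-!
`Ext(M, N) = Ext(N*, M*)` for the duality into a canonical ideal.
-/

set_option autoImplicit false
set_option linter.all false

universe u

open CategoryTheory GrothLib

noncomputable section

namespace Groth.Agent.Lib.TFDual16

variable {O : Type u} [CommRing O] [IsDomain O] [IsNoetherianRing O]
variable (W : Type u) [AddCommGroup W] [Module O W]

/-- the evaluation into the double dual -/
def ev (M : Type u) [AddCommGroup M] [Module O M] : M →ₗ[O] ((M →ₗ[O] W) →ₗ[O] W) :=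
  LinearMap.id.flip

/-- precomposition -/
def dmap {A B : Type u} [AddCommGroup A] [Module O A] [AddCommGroup B] [Module O B] (f : A →ₗ[O] B) :
    (B →ₗ[O] W) →ₗ[O] (A →ₗ[O] W) := LinearMap.lcomp O W f

omit [IsDomain O] [IsNoetherianRing O] in
lemma ev_nat {A B : Type u} [AddCommGroup A] [Module O A] [AddCommGroup B] [Module O B] (f : A →ₗ[O] B) (x : A) :
    dmap W (dmap W f) (ev (O := O) W A x) = ev (O := O) W B (f x) := rfl

variable [Module.Finite O W] [NoZeroSMulDivisors O W]
variable (hend : ∀ g : W →ₗ[O] W, ∃ c : O, ∀ x, g x = c • x) (hW0 : ∃ w : W, w ≠ 0)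
variable (hinj : HasInjectiveDimensionLT (ModuleCat.of O W) 2)

include hend hW0 in
lemma ev_pi_bijective {n : ℕ} : Function.Bijective (ev (O := O) W (Fin n → O)) := by
  classical
  obtain ⟨w, hw⟩ := hW0
  constructor
  · rw [injective_iff_map_eq_zero]
    intro x hx
    funext i
    have h := LinearMap.congr_fun hx ((LinearMap.toSpanSingleton O W w).comp (LinearMap.proj (φ := fun _ : Fin n => O) i))
    have h' : x i • w = 0 := h
    exact (smul_eq_zero.1 h').resolve_right hw
  · intro Φ
    choose c hc using fun i : Fin n => hend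
      { toFun := fun z => Φ ((LinearMap.toSpanSingleton O W z).comp (LinearMap.proj (φ := fun _ : Fin n => O) i))
        map_add' := fun a b => by rw [← map_add]; congr 1; ext; simp
        map_smul' := fun r a => by rw [RingHom.id_apply, ← map_smul]; congr 1; ext; simp [smul_comm r] }
    refine ⟨c, LinearMap.ext fun g => ?_⟩
    show g c = Φ g
    have hg : g = ∑ i, (LinearMap.toSpanSingleton O W (g (Pi.single i 1))).comp
        (LinearMap.proj (φ := fun _ : Fin n => O) i) := by
      refine LinearMap.pi_ext fun j r => ?_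
      rw [LinearMap.sum_apply, Finset.sum_eq_single j]
      · rw [LinearMap.comp_apply, LinearMap.proj_apply, Pi.single_eq_same, LinearMap.toSpanSingleton_apply,
          ← map_smul, ← Pi.single_smul, smul_eq_mul, mul_one]
      · intro i _ hij
        simp [Pi.single_eq_of_ne hij]
      · simp
    conv_rhs => rw [hg, map_sum]
    rw [Finset.sum_congr rfl fun i _ => show Φ ((LinearMap.toSpanSingleton O W (g (Pi.single i 1))).comp
        (LinearMap.proj (φ := fun _ : Fin n => O) i)) = c i • g (Pi.single i 1) from hc i _,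
      Finset.sum_congr rfl fun i _ => (map_smul g (c i) (Pi.single i 1)).symm, ← map_sum]
    congr 1
    funext j
    simp [Finset.sum_apply, Pi.single_apply]

omit [NoZeroSMulDivisors O W] in
lemma finite_dual (M : Type u) [AddCommGroup M] [Module O M] [Module.Finite O M] :
    Module.Finite O (M →ₗ[O] W) := by
  obtain ⟨n, p, hp⟩ := Module.Finite.exists_fin' O M
  haveI : Module.Finite O ((Fin n → O) →ₗ[O] W) :=
    Module.Finite.equiv ((Pi.basisFun O (Fin n)).constr O)
  exact Module.Finite.of_injective (dmap W p) (fun a b h => LinearMap.cancel_right hp |>.1 h)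

omit [IsNoetherianRing O] [Module.Finite O W] in
lemma torsionFree_dual (M : Type u) [AddCommGroup M] [Module O M] :
    NoZeroSMulDivisors O (M →ₗ[O] W) :=
  ⟨fun {c f} h => by
    by_cases hc : c = 0
    · exact Or.inl hc
    · exact Or.inr (LinearMap.ext fun x => (smul_eq_zero.1 (LinearMap.congr_fun h x)).resolve_left hc)⟩

include hinj in
omit [Module.Finite O W] [NoZeroSMulDivisors O W] in
lemma ext_W_subsingleton (M : Type u) [AddCommGroup M] [Module O M] [Module.Finite O M] [NoZeroSMulDivisors O M]
    (i : ℕ) (hi : 1 ≤ i) : Subsingleton (Abelian.Ext (ModuleCat.of O M) (ModuleCat.of O W) i) := by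
  obtain ⟨ι, hι, f, hf⟩ := GrothLib.Dim.exists_injective_linearMap_pi (P := O) (M := M)
  exact subsingleton_ext_of_injective_pi M W hinj f hf i hi

omit [IsNoetherianRing O] [Module.Finite O W] [NoZeroSMulDivisors O W] in
lemma dmap_exact {A B C : Type u} [AddCommGroup A] [Module O A] [AddCommGroup B] [Module O B] [AddCommGroup C]
    [Module O C] (f : A →ₗ[O] B) (g : B →ₗ[O] C) (hex : Function.Exact f g) (hg : Function.Surjective g) :
    Function.Exact (dmap W g) (dmap W f) := by
  intro φ
  constructor
  · intro h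
    have hker : LinearMap.ker g ≤ LinearMap.ker φ := fun x hx => by
      obtain ⟨a, rfl⟩ := (hex x).1 hx
      exact LinearMap.congr_fun h a
    refine ⟨((LinearMap.ker g).liftQ φ hker).comp (LinearMap.quotKerEquivOfSurjective g hg).symm.toLinearMap, ?_⟩
    refine LinearMap.ext fun x => ?_
    show ((LinearMap.ker g).liftQ φ hker) ((LinearMap.quotKerEquivOfSurjective g hg).symm (g x)) = φ x
    rw [show (LinearMap.quotKerEquivOfSurjective g hg).symm (g x) = Submodule.Quotient.mk x from
      (LinearEquiv.symm_apply_eq _).2 rfl]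
    rfl
  · rintro ⟨ψ, rfl⟩
    exact LinearMap.ext fun a => by
      show ψ (g (f a)) = 0
      rw [(hex _).2 ⟨a, rfl⟩, map_zero]

include hinj in
omit [Module.Finite O W] [NoZeroSMulDivisors O W] in
lemma dmap_surjective {A B C : Type u} [AddCommGroup A] [Module O A] [AddCommGroup B] [Module O B] [AddCommGroup C]
    [Module O C] [Module.Finite O C] [NoZeroSMulDivisors O C]
    (f : A →ₗ[O] B) (g : B →ₗ[O] C) (hf : Function.Injective f) (hex : Function.Exact f g) (hg : Function.Surjective g) :
    Function.Surjective (dmap W f) := by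
  intro φ
  have hS := TFCurv11.sesC_shortExact f g hf hex hg
  haveI : Subsingleton (Abelian.Ext (TFCurv11.sesC f g hex).X₃ (ModuleCat.of O W) 1) :=
    ext_W_subsingleton W hinj C 1 le_rfl
  obtain ⟨x₂, hx₂⟩ := Abelian.Ext.contravariant_sequence_exact₁ hS (ModuleCat.of O W)
    (Abelian.Ext.mk₀ (ModuleCat.ofHom φ : (TFCurv11.sesC f g hex).X₁ ⟶ ModuleCat.of O W)) (n₁ := 1) (by omega)
    (Subsingleton.elim _ _)
  obtain ⟨ψ, rfl⟩ := Abelian.Ext.addEquiv₀.symm.surjective x₂
  refine ⟨ψ.hom, ?_⟩
  have h1 : (Abelian.Ext.mk₀ ((TFCurv11.sesC f g hex).f ≫ ψ)) =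
      Abelian.Ext.mk₀ (ModuleCat.ofHom φ : (TFCurv11.sesC f g hex).X₁ ⟶ ModuleCat.of O W) := by
    rw [← hx₂]; exact (Abelian.Ext.mk₀_comp_mk₀ _ _).symm
  exact congrArg ModuleCat.Hom.hom (Abelian.Ext.addEquiv₀.symm.injective h1)

include hend hW0 hinj in
theorem ev_bijective (M : Type u) [AddCommGroup M] [Module O M] [Module.Finite O M] [NoZeroSMulDivisors O M] :
    Function.Bijective (ev (O := O) W M) := by
  constructor
  · obtain ⟨ι, hι, f, hf⟩ := GrothLib.Dim.exists_injective_linearMap_pi (P := O) (M := M)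
    obtain ⟨n, ⟨e⟩⟩ := Finite.exists_equiv_fin ι
    let f' : M →ₗ[O] (Fin n → O) := (LinearMap.funLeft O O e.symm).comp f
    have hf' : Function.Injective f' :=
      (LinearMap.funLeft_injective_of_surjective O O e.symm e.symm.surjective).comp hf
    intro a b hab
    refine hf' ((ev_pi_bijective (O := O) W hend hW0).1 ?_)
    rw [← ev_nat, ← ev_nat, hab]
  · obtain ⟨n, p, hp⟩ := Module.Finite.exists_fin' O M
    haveI : Module.Finite O (LinearMap.ker p) := Module.Finite.of_injective (LinearMap.ker p).subtype Subtype.val_injective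
    haveI : NoZeroSMulDivisors O (LinearMap.ker p) :=
      Function.Injective.noZeroSMulDivisors _ Subtype.val_injective rfl fun _ _ => rfl
    have hex : Function.Exact (LinearMap.ker p).subtype p := LinearMap.exact_subtype_ker_map p
    have hsurj : Function.Surjective (dmap W (LinearMap.ker p).subtype) :=
      dmap_surjective W hinj _ p Subtype.val_injective hex hp
    have hdp : Function.Injective (dmap W p) := fun a b h => LinearMap.cancel_right hp |>.1 h
    haveI := finite_dual (O := O) W M
    haveI := finite_dual (O := O) W (LinearMap.ker p)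
    haveI := torsionFree_dual (O := O) W (LinearMap.ker p)
    have hdd : Function.Surjective (dmap W (dmap W p)) :=
      dmap_surjective W hinj (dmap W p) (dmap W (LinearMap.ker p).subtype) hdp
        (dmap_exact W _ p hex hp) hsurj
    intro z
    obtain ⟨y, rfl⟩ := hdd z
    obtain ⟨x, rfl⟩ := (ev_pi_bijective (O := O) W hend hW0).2 y
    exact ⟨p x, (ev_nat W p x).symm⟩

include hend hW0 hinj in
theorem homDual_bijective (M N : Type u) [AddCommGroup M] [Module O M] [AddCommGroup N] [Module O N]
    [Module.Finite O N] [NoZeroSMulDivisors O N] :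
    Function.Bijective (fun f : M →ₗ[O] N => dmap W f) := by
  have hev := ev_bijective (O := O) W hend hW0 hinj N
  constructor
  · intro f g h
    refine LinearMap.ext fun x => hev.1 (LinearMap.ext fun φ => ?_)
    exact LinearMap.congr_fun (LinearMap.congr_fun h φ) x
  · intro g
    let e := LinearEquiv.ofBijective (ev (O := O) W N) hev
    refine ⟨e.symm.toLinearMap.comp ((dmap W g).comp (ev (O := O) W M)), LinearMap.ext fun φ => LinearMap.ext fun x => ?_⟩
    show φ (e.symm (dmap W g (ev (O := O) W M x))) = g φ x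
    have h1 : ev (O := O) W N (e.symm (dmap W g (ev (O := O) W M x))) = dmap W g (ev (O := O) W M x) := e.apply_symm_apply _
    exact LinearMap.congr_fun h1 φ

include hend hW0 hinj in
theorem ext_equiv_succ : ∀ (i : ℕ) (M N : Type u) [AddCommGroup M] [Module O M] [Module.Finite O M]
    [NoZeroSMulDivisors O M] [AddCommGroup N] [Module O N] [Module.Finite O N] [NoZeroSMulDivisors O N],
    Nonempty (Abelian.Ext (ModuleCat.of O M) (ModuleCat.of O N) (i + 1) ≃+
      Abelian.Ext (ModuleCat.of O (N →ₗ[O] W)) (ModuleCat.of O (M →ₗ[O] W)) (i + 1)) := by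
  intro i
  induction i with
  | zero =>
    intro M N _ _ _ _ _ _ _ _
    obtain ⟨n, p, hp⟩ := Module.Finite.exists_fin' O M
    haveI : Module.Finite O (LinearMap.ker p) := Module.Finite.of_injective (LinearMap.ker p).subtype Subtype.val_injective
    have hex : Function.Exact (LinearMap.ker p).subtype p := LinearMap.exact_subtype_ker_map p
    have hsurj : Function.Surjective (dmap W (LinearMap.ker p).subtype) :=
      dmap_surjective W hinj _ p Subtype.val_injective hex hp
    have hdp : Function.Injective (dmap W p) := fun a b h => LinearMap.cancel_right hp |>.1 h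
    haveI := finite_dual (O := O) W N
    haveI := torsionFree_dual (O := O) W N
    have hvan : Subsingleton (Abelian.Ext (ModuleCat.of O (N →ₗ[O] W)) (ModuleCat.of O ((Fin n → O) →ₗ[O] W)) 1) := by
      have h1 := subsingleton_ext_pi (n := n) (N →ₗ[O] W) W 1 (ext_W_subsingleton W hinj (N →ₗ[O] W) 1 le_rfl)
      let e : (Fin n → W) ≃ₗ[O] ((Fin n → O) →ₗ[O] W) := (Pi.basisFun O (Fin n)).constr O
      exact @Equiv.subsingleton _ _ ((((Abelian.extFunctor 1).obj (Opposite.op (ModuleCat.of O (N →ₗ[O] W)))).mapIso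
        e.toModuleIso).addCommGroupIsoToAddEquiv).symm.toEquiv h1
    obtain ⟨e1⟩ := TFCurv11.exists_cok_pre (LinearMap.ker p).subtype p Subtype.val_injective hex hp N
      (TFCurv11.subsingleton_ext_one_free (Fin n → O) N)
    obtain ⟨e2⟩ := TFCurv11.exists_cok_post (dmap W p) (dmap W (LinearMap.ker p).subtype) hdp
      (dmap_exact W _ p hex hp) hsurj (N →ₗ[O] W) hvan
    let D : ((LinearMap.ker p) →ₗ[O] N) ≃ₗ[O] ((N →ₗ[O] W) →ₗ[O] ((LinearMap.ker p) →ₗ[O] W)) :=
      LinearEquiv.ofBijective
        { toFun := fun f => dmap W f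
          map_add' := fun a b => LinearMap.ext fun φ => LinearMap.ext fun x => map_add φ (a x) (b x)
          map_smul' := fun c a => LinearMap.ext fun φ => LinearMap.ext fun x => by simp [dmap] }
        (homDual_bijective (O := O) W hend hW0 hinj _ N)
    have hmap : (LinearMap.range (LinearMap.lcomp O N (LinearMap.ker p).subtype)).map D.toLinearMap =
        LinearMap.range (TFCurv11.postC (dmap W (LinearMap.ker p).subtype) (N →ₗ[O] W)) := by
      ext z
      constructor
      · rintro ⟨f, ⟨h, rfl⟩, rfl⟩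
        exact ⟨dmap W h, rfl⟩
      · rintro ⟨g, rfl⟩
        obtain ⟨h, rfl⟩ := (homDual_bijective (O := O) W hend hW0 hinj (Fin n → O) N).2 g
        exact ⟨_, ⟨h, rfl⟩, rfl⟩
    exact ⟨e1.symm.trans ((Submodule.Quotient.equiv _ _ D hmap).toAddEquiv.trans e2)⟩
  | succ i ih =>
    intro M N _ _ _ _ _ _ _ _
    obtain ⟨n, p, hp⟩ := Module.Finite.exists_fin' O M
    haveI : Module.Finite O (LinearMap.ker p) := Module.Finite.of_injective (LinearMap.ker p).subtype Subtype.val_injective
    haveI : NoZeroSMulDivisors O (LinearMap.ker p) :=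
      Function.Injective.noZeroSMulDivisors _ Subtype.val_injective rfl fun _ _ => rfl
    have hex : Function.Exact (LinearMap.ker p).subtype p := LinearMap.exact_subtype_ker_map p
    have hS := TFCurv11.sesC_shortExact (LinearMap.ker p).subtype p Subtype.val_injective hex hp
    have hsurj : Function.Surjective (dmap W (LinearMap.ker p).subtype) :=
      dmap_surjective W hinj _ p Subtype.val_injective hex hp
    have hdp : Function.Injective (dmap W p) := fun a b h => LinearMap.cancel_right hp |>.1 h
    have hT := TFCurv11.sesC_shortExact (dmap W p) (dmap W (LinearMap.ker p).subtype) hdp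
      (dmap_exact W _ p hex hp) hsurj
    haveI := finite_dual (O := O) W N
    haveI := torsionFree_dual (O := O) W N
    haveI : Projective (TFCurv11.sesC (LinearMap.ker p).subtype p hex).X₂ :=
      ModuleCat.projective_of_free (Pi.basisFun O (Fin n))
    have hv : ∀ j, 1 ≤ j → ∀ x : Abelian.Ext (ModuleCat.of O (N →ₗ[O] W))
        (TFCurv11.sesC (dmap W p) (dmap W (LinearMap.ker p).subtype) (dmap_exact W _ p hex hp)).X₂ j, x = 0 := by
      intro j hj x
      have h1 := subsingleton_ext_pi (n := n) (N →ₗ[O] W) W j (ext_W_subsingleton W hinj (N →ₗ[O] W) j hj)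
      let e : (Fin n → W) ≃ₗ[O] ((Fin n → O) →ₗ[O] W) := (Pi.basisFun O (Fin n)).constr O
      have h2 : Subsingleton (Abelian.Ext (ModuleCat.of O (N →ₗ[O] W)) (ModuleCat.of O ((Fin n → O) →ₗ[O] W)) j) :=
        @Equiv.subsingleton _ _ ((((Abelian.extFunctor j).obj (Opposite.op (ModuleCat.of O (N →ₗ[O] W)))).mapIso
          e.toModuleIso).addCommGroupIsoToAddEquiv).symm.toEquiv h1
      exact @Subsingleton.elim _ h2 x 0
    let δ₁ : Abelian.Ext (TFCurv11.sesC (LinearMap.ker p).subtype p hex).X₁ (ModuleCat.of O N) (i + 1) →+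
        Abelian.Ext (TFCurv11.sesC (LinearMap.ker p).subtype p hex).X₃ (ModuleCat.of O N) (i + 1 + 1) :=
      hS.extClass.precomp (ModuleCat.of O N) (by omega)
    have hδ₁ : Function.Bijective δ₁ := by
      constructor
      · rw [injective_iff_map_eq_zero]
        intro x hx
        obtain ⟨y, rfl⟩ := Abelian.Ext.contravariant_sequence_exact₁ hS (ModuleCat.of O N) x (n₁ := i + 1 + 1) (by omega) hx
        rw [Abelian.Ext.eq_zero_of_projective y, Abelian.Ext.comp_zero]
      · intro x
        exact Abelian.Ext.contravariant_sequence_exact₃ hS (ModuleCat.of O N) x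
          (Abelian.Ext.eq_zero_of_projective _) (n₀ := i + 1) (by omega)
    let δ₂ : Abelian.Ext (ModuleCat.of O (N →ₗ[O] W))
          (TFCurv11.sesC (dmap W p) (dmap W (LinearMap.ker p).subtype) (dmap_exact W _ p hex hp)).X₃ (i + 1) →+
        Abelian.Ext (ModuleCat.of O (N →ₗ[O] W))
          (TFCurv11.sesC (dmap W p) (dmap W (LinearMap.ker p).subtype) (dmap_exact W _ p hex hp)).X₁ (i + 1 + 1) :=
      hT.extClass.postcomp (ModuleCat.of O (N →ₗ[O] W)) rfl
    have hδ₂ : Function.Bijective δ₂ := by
      constructor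
      · rw [injective_iff_map_eq_zero]
        intro x hx
        obtain ⟨y, rfl⟩ := Abelian.Ext.covariant_sequence_exact₃ (ModuleCat.of O (N →ₗ[O] W)) hT x (n₁ := i + 1 + 1) rfl hx
        rw [hv _ (by omega) y, Abelian.Ext.zero_comp]
      · intro x
        exact Abelian.Ext.covariant_sequence_exact₁ (ModuleCat.of O (N →ₗ[O] W)) hT x
          (hv _ (by omega) _) (n₀ := i + 1) rfl
    obtain ⟨e⟩ := ih (LinearMap.ker p) N
    exact ⟨(AddEquiv.ofBijective δ₁ hδ₁).symm.trans (e.trans (AddEquiv.ofBijective δ₂ hδ₂))⟩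

include hend hW0 hinj in
theorem ext_equiv (M N : Type u) [AddCommGroup M] [Module O M] [Module.Finite O M]
    [NoZeroSMulDivisors O M] [AddCommGroup N] [Module O N] [Module.Finite O N] [NoZeroSMulDivisors O N] (i : ℕ) :
    Nonempty (Abelian.Ext (ModuleCat.of O M) (ModuleCat.of O N) i ≃+
      Abelian.Ext (ModuleCat.of O (N →ₗ[O] W)) (ModuleCat.of O (M →ₗ[O] W)) i) := by
  rcases i with _ | i
  · let D : (M →ₗ[O] N) ≃+ ((N →ₗ[O] W) →ₗ[O] (M →ₗ[O] W)) :=
      AddEquiv.ofBijective
        (AddMonoidHom.mk' (fun f => dmap W f)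
          (fun a b => LinearMap.ext fun φ => LinearMap.ext fun x => by simp [dmap]))
        (homDual_bijective (O := O) W hend hW0 hinj M N)
    let A1 : Abelian.Ext (ModuleCat.of O M) (ModuleCat.of O N) 0 ≃+ (M →ₗ[O] N) :=
      Abelian.Ext.addEquiv₀.trans ModuleCat.homAddEquiv
    let A2 : Abelian.Ext (ModuleCat.of O (N →ₗ[O] W)) (ModuleCat.of O (M →ₗ[O] W)) 0 ≃+
        ((N →ₗ[O] W) →ₗ[O] (M →ₗ[O] W)) := Abelian.Ext.addEquiv₀.trans ModuleCat.homAddEquiv
    exact ⟨A1.trans (D.trans A2.symm)⟩
  · exact ext_equiv_succ W hend hW0 hinj i M N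

end Groth.Agent.Lib.TFDual16
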