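import Groth.Agent.Lib.TFCurv11.LatticeDual
import Groth.Agent.Lib.TFCurv11.ExtOne
import Groth.Agent.Lib.Dim.Ring

/-!
Duality of torsion-free modules into a canonical ideal of a one-dimensional local domain.
-/

set_option autoImplicit false
set_option linter.all false

universe u

open CategoryTheory GrothLib

noncomputable section

namespace Groth.Agent.Lib.TFDual16

variable {O : Type u} [CommRing O] {K : Type u} [Field K] [Algebra O K]

section endo

variable [IsDomain O] [IsNoetherianRing O] [IsLocalRing O] [IsAlgClosed (IsLocalRing.ResidueField O)] [IsFractionRing O K]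

theorem div_self_eq_one_of_one_le (hdim : ringKrullDim O = 1) (hfin : Module.Finite O ↥(integralClosure O K))
    (ω : Submodule O K) (hωfg : ω.FG) (hω1 : (1 : Submodule O K) ≤ ω)
    (hωinj : HasInjectiveDimensionLT (ModuleCat.of O ↥ω) 2) : ω / ω = 1 := by
  classical
  haveI : Ring.KrullDimLE 1 O := Ring.krullDimLE_iff.mpr hdim.le
  have hω0 : ω ≠ ⊥ := fun h => by
    have h1 : (1 : K) ∈ (⊥ : Submodule O K) := h ▸ hω1 (Submodule.one_le.1 le_rfl)
    exact one_ne_zero ((Submodule.mem_bot O).1 h1)
  obtain ⟨a, ha, hM⟩ := DimOneLen.exists_smul_le (R := O) (K := K) (1 : Submodule O K) ω hωfg (fun m _ => by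
      rw [show m = m • (1 : K) from (mul_one m).symm]
      exact Submodule.smul_mem _ _ (Submodule.subset_span (Submodule.one_le.1 le_rfl)))
  haveI : Module.Finite O ω := Module.Finite.iff_fg.2 hωfg
  have hne : LatticeDual11.qlen (1 : Submodule O K) ω ≠ ⊤ := Module.length_ne_top_iff.2
    (LatticeDual11.isFiniteLength_quot (L := (1 : Submodule O K)) (M := ω) hdim a ha hM)
  obtain ⟨n, hn⟩ : ∃ n : ℕ, LatticeDual11.qlen (1 : Submodule O K) ω = n := ⟨_, (ENat.coe_toNat hne).symm⟩
  have hdiv1 : ω / (1 : Submodule O K) = ω := by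
    refine le_antisymm (fun y hy => ?_) fun y hy => Submodule.mem_div_iff_forall_mul_mem.2 fun z hz => ?_
    · have := Submodule.mem_div_iff_forall_mul_mem.1 hy 1 (Submodule.one_le.1 le_rfl)
      rwa [mul_one] at this
    · obtain ⟨c, rfl⟩ := Submodule.mem_one.1 hz
      rw [mul_comm, ← Algebra.smul_def]
      exact ω.smul_mem c hy
  have h1ω : (1 : Submodule O K) ≤ ω / ω := fun z hz => Submodule.mem_div_iff_forall_mul_mem.2 fun y hy => by
    obtain ⟨c, rfl⟩ := Submodule.mem_one.1 hz
    rw [← Algebra.smul_def]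
    exact ω.smul_mem c hy
  have hωω : ω / ω ≤ ω := (LatticeDual11.div_mono ω hω1).trans hdiv1.le
  by_cases hn0 : n = 0
  · subst hn0
    have heq := LatticeDual11.qlen_eq_zero hω1 (by simpa using hn)
    exact le_antisymm (hωω.trans heq.ge) h1ω
  have hkey := LatticeDual11.qlen_div ω hdim hfin hω0 hωfg hωinj n hω1 hn
  rw [hdiv1] at hkey
  have hsum := LatticeDual11.qlen_trans h1ω hωω
  rw [hn, hkey] at hsum
  have ht0 : Module.length O (LatticeDual11.socle ω) ≠ 0 := fun h => by
    have := Module.length_eq_zero_iff.1 h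
    exact LatticeDual11.socle_ne_bot ω hdim hω0 hωfg Submodule.eq_bot_of_subsingleton
  have ht : LatticeDual11.qlen 1 (ω / ω) = 0 := by
    revert hsum ht0
    generalize LatticeDual11.qlen 1 (ω / ω) = x
    generalize Module.length O (LatticeDual11.socle ω) = t
    intro hsum ht0
    induction t using ENat.recTopCoe with
    | top =>
      rw [ENat.mul_top (by exact_mod_cast hn0)] at hsum
      simp at hsum
    | coe t =>
      induction x using ENat.recTopCoe with
      | top => simp at hsum
      | coe x =>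
        have hs : n = x + n * t := by exact_mod_cast hsum
        have ht1 : 1 ≤ t := Nat.one_le_iff_ne_zero.2 (by exact_mod_cast ht0)
        have h2 : n * 1 ≤ n * t := Nat.mul_le_mul_left n ht1
        have hx : x = 0 := by omega
        subst hx; simp
  exact (LatticeDual11.qlen_eq_zero h1ω ht).symm

/-- scaling by a nonzero element as a linear map of `K` -/
def scale (w : K) : K →ₗ[O] K := LinearMap.mulLeft O w

/-- Every endomorphism of a canonical ideal is a homothety. -/
theorem endo_eq_smul (hdim : ringKrullDim O = 1) (hfin : Module.Finite O ↥(integralClosure O K))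
    (ω : Submodule O K) (hω0 : ω ≠ ⊥) (hωfg : ω.FG) (hωinj : HasInjectiveDimensionLT (ModuleCat.of O ↥ω) 2)
    (g : ↥ω →ₗ[O] ↥ω) : ∃ c : O, ∀ x, g x = c • x := by
  obtain ⟨w, hw, hw0⟩ := Submodule.exists_mem_ne_zero_of_ne_bot hω0
  let ω' : Submodule O K := ω.map (scale w⁻¹)
  have hinj : Function.Injective (scale (O := O) w⁻¹) := mul_right_injective₀ (inv_ne_zero hw0)
  have h1 : (1 : Submodule O K) ≤ ω' := Submodule.one_le.2 ⟨w, hw, inv_mul_cancel₀ hw0⟩
  have hfg' : ω'.FG := hωfg.map _
  haveI := hωinj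
  have hinj' : HasInjectiveDimensionLT (ModuleCat.of O ↥ω') 2 :=
    hasInjectiveDimensionLT_of_iso (Submodule.equivMapOfInjective _ hinj ω).toModuleIso 2
  have hdiv := div_self_eq_one_of_one_le hdim hfin ω' hfg' h1 hinj'
  obtain ⟨y, hy⟩ := LatticeDual11.exists_eq_mul (ω.subtype.comp g)
  have hy' : y ∈ ω' / ω' := Submodule.mem_div_iff_forall_mul_mem.2 fun z hz => by
    obtain ⟨x, hx, rfl⟩ := hz
    refine ⟨g ⟨x, hx⟩, (g ⟨x, hx⟩).2, ?_⟩
    have := hy ⟨x, hx⟩
    show w⁻¹ * (g ⟨x, hx⟩ : K) = y * (w⁻¹ * x)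
    simp only [LinearMap.comp_apply, Submodule.subtype_apply] at this
    rw [this]; ring
  rw [hdiv, Submodule.mem_one] at hy'
  obtain ⟨c, rfl⟩ := hy'
  refine ⟨c, fun x => Subtype.ext ?_⟩
  rw [Submodule.coe_smul, Algebra.smul_def]
  exact hy x

end endo

section ext

variable {n : ℕ}

/-- `Ext^{≥1}(N, Y) = 0` for `Y` of injective dimension at most one and `N` inside a free module. -/
theorem subsingleton_ext_of_injective_pi (N Y : Type u) [AddCommGroup N] [Module O N] [AddCommGroup Y] [Module O Y]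
    (hY : HasInjectiveDimensionLT (ModuleCat.of O Y) 2)
    {ι : Type} (f : N →ₗ[O] (ι → O)) [Finite ι] (hf : Function.Injective f) (i : ℕ) (hi : 1 ≤ i) :
    Subsingleton (Abelian.Ext (ModuleCat.of O N) (ModuleCat.of O Y) i) := by
  haveI := hY
  rcases Nat.lt_or_ge i 2 with h | h
  · obtain rfl : i = 1 := by omega
    have hex : Function.Exact f (LinearMap.range f).mkQ := LinearMap.exact_map_mkQ_range f
    have hS := TFCurv11.sesC_shortExact f (LinearMap.range f).mkQ hf hex (Submodule.mkQ_surjective _)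
    haveI : Projective (TFCurv11.sesC f (LinearMap.range f).mkQ hex).X₂ :=
      ModuleCat.projective_of_free (Module.Free.chooseBasis O (ι → O))
    have key : ∀ x : Abelian.Ext (TFCurv11.sesC f (LinearMap.range f).mkQ hex).X₁ (ModuleCat.of O Y) 1, x = 0 := fun x => by
      haveI : Subsingleton (Abelian.Ext (TFCurv11.sesC f (LinearMap.range f).mkQ hex).X₃ (ModuleCat.of O Y) 2) :=
        HasInjectiveDimensionLT.subsingleton _ 2 2 le_rfl _
      obtain ⟨x₂, hx₂⟩ := Abelian.Ext.contravariant_sequence_exact₁ hS (ModuleCat.of O Y) x (n₁ := 2) (by omega)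
        (Subsingleton.elim _ _)
      rw [← hx₂, Abelian.Ext.eq_zero_of_projective x₂, Abelian.Ext.comp_zero]
    exact ⟨fun a b => (key a).trans (key b).symm⟩
  · exact HasInjectiveDimensionLT.subsingleton _ 2 i h _

/-- Vanishing of `Ext` passes to finite powers in the second variable. -/
theorem subsingleton_ext_pi (N Y : Type u) [AddCommGroup N] [Module O N] [AddCommGroup Y] [Module O Y]
    (i : ℕ) (h : Subsingleton (Abelian.Ext (ModuleCat.of O N) (ModuleCat.of O Y) i)) :
    Subsingleton (Abelian.Ext (ModuleCat.of O N) (ModuleCat.of O (Fin n → Y)) i) := by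
  classical
  have hid : (𝟙 (ModuleCat.of O (Fin n → Y))) = ∑ j : Fin n,
      (ModuleCat.ofHom (LinearMap.proj (R := O) (φ := fun _ : Fin n => Y) j) ≫
        ModuleCat.ofHom (LinearMap.single O (fun _ : Fin n => Y) j)) := by
    ext v k
    simp [ModuleCat.hom_sum, Pi.single_apply]
  have key : ∀ x : Abelian.Ext (ModuleCat.of O N) (ModuleCat.of O (Fin n → Y)) i, x = 0 := fun x => by
    rw [← Abelian.Ext.comp_mk₀_id x, hid, Abelian.Ext.mk₀_sum, Abelian.Ext.comp_sum]
    refine Finset.sum_eq_zero fun j _ => ?_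
    rw [← Abelian.Ext.mk₀_comp_mk₀, ← Abelian.Ext.comp_assoc_of_second_deg_zero,
      @Subsingleton.elim _ h (x.comp (Abelian.Ext.mk₀ _) (add_zero i)) 0, Abelian.Ext.zero_comp]
  exact ⟨fun a b => (key a).trans (key b).symm⟩

end ext

end Groth.Agent.Lib.TFDual16
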